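import Cfsg.Agent.Mrg.Omega.NO3S.EThree.IntQ
import Cfsg.Agent.Mrg.Omega.NO3S.EThree.TPlug
import Cfsg.Agent.Mrg.Omega.TCQ.VBangQ
import Cfsg.Agent.Mrg.Omega.NO3S.EThree.Frame
import Cfsg.Agent.Mrg.Omega.NO3S.EThree.TiNegY


/-!
# The level inputs `LvIn` of THEOREM N over `Bg` / `Mul` (helper483's #24627)

* `off_of_AA` : offenders on `B`-invariant elementary abelian `F ≤ O` from `J(O) ≰ C(U i)` (Thompson; helper475 #24418);
* `off_of` : (V!) in the `relIndex` form of the field `LvIn.off`;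
* `LvIn.of_bgJ` : `LvIn` from `Bg`, `TI (Z 0)`, `NonLoc`, `done` (LEMMA 0 + STEP F) as a hypothesis, and
  `hJ` : some `A ∈ AA O` moves `W i` (no stage);
* `LvIn.of_bg` : the same with the stage `StgP` ((V!)) instead of `hJ`; `LvIn.of_mul` : the same over `Mul`.
-/

set_option autoImplicit false

namespace Cfsg.Agent.Omega.TCQ.R.Plug

open Subgroup Cfsg
open Cfsg.Agent.ZN (jj zj bau zc zl o2)
open Cfsg.Agent.ZN.ChoiceBase (AA mem_AA_iff mm_eq)
open Cfsg.Agent.ZN.ChoiceSit (Syl)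
open Cfsg.Agent.Omega.MinPar (NonLoc)
open Cfsg.Agent.Omega.OM Cfsg.Agent.Omega.OM.Uni
open Cfsg.Agent.Omega.OM.PG
open Cfsg.Agent.Omega.NO3S.EThree Cfsg.Agent.Omega.NO3S.EThree.Frame
open Cfsg.Agent.Omega.Node.MultiOf

universe u

variable {G : Type u} [Group G] [Finite G]

omit [Finite G] in
theorem card_rel (F C : Subgroup G) : Nat.card ↥(F ⊓ C) * (F ⊓ C).relIndex F = Nat.card F := by
  have h1 := Subgroup.card_mul_index ((F ⊓ C).subgroupOf F)
  rwa [Nat.card_congr (Subgroup.subgroupOfEquivOfLe (inf_le_left : F ⊓ C ≤ F)).toEquiv] at h1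

/-- offender inequality, `relIndex` form -/
theorem relIndex_of_card {F A : Subgroup G}
    (h : Nat.card F * Nat.card ↥(A ⊓ centralizer (F : Set G)) ≤ Nat.card A * Nat.card ↥(F ⊓ centralizer (A : Set G))) :
    (centralizer (A : Set G)).relIndex F ≤ (centralizer (F : Set G)).relIndex A := by
  have h1 : Nat.card ↥(F ⊓ centralizer (A : Set G)) * (centralizer (A : Set G)).relIndex F = Nat.card F := by
    rw [← Subgroup.inf_relIndex_left, card_rel _ _]
  have h2 : Nat.card ↥(A ⊓ centralizer (F : Set G)) * (centralizer (F : Set G)).relIndex A = Nat.card A := by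
    rw [← Subgroup.inf_relIndex_left, card_rel _ _]
  have p1 : 0 < Nat.card ↥(F ⊓ centralizer (A : Set G)) := Nat.card_pos
  have p2 : 0 < Nat.card ↥(A ⊓ centralizer (F : Set G)) := Nat.card_pos
  rw [← h1, ← h2] at h
  refine Nat.le_of_mul_le_mul_left (c := Nat.card ↥(F ⊓ centralizer (A : Set G)) *
    Nat.card ↥(A ⊓ centralizer (F : Set G))) ?_ (Nat.mul_pos p1 p2)
  nlinarith [h]

/-- **Thompson**: `A ∈ AA O` offends on every elementary abelian `F ≤ O` which it normalises and moves. -/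
theorem off_of_AA {O A F U : Subgroup G} (hA : A ∈ AA O) (hAU : ¬ A ≤ centralizer (U : Set G)) (hF : F ≤ O)
    (hn : A ≤ normalizer (F : Set G)) (hc : ∀ x ∈ F, ∀ y ∈ F, x * y = y * x) (h2 : ∀ x ∈ F, x ^ 2 = 1) (hU : U ≤ F) :
    ¬ A ≤ centralizer (F : Set G) ∧
      (centralizer (A : Set G)).relIndex F ≤ (centralizer (F : Set G)).relIndex A := by
  refine ⟨fun h1 => hAU (h1.trans (centralizer_le hU)), ?_⟩
  rw [mem_AA_iff] at hA
  obtain ⟨hA2, hAO, hmax⟩ := hA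
  obtain ⟨hAc, hAsq⟩ := ExactA.eab_iff.1 hA2
  have hFF : F ≤ centralizer (F : Set G) := fun x hx => mem_centralizer_iff.2 fun y hy => hc y hy x hx
  set D := A ⊓ centralizer (F : Set G) with hD
  have hDF : D ≤ centralizer (F : Set G) := inf_le_right
  have hDn : D ≤ normalizer (F : Set G) := hDF.trans (centralizer_le_normalizer _)
  -- `F D` is elementary abelian
  have hFD : F ≤ centralizer (D : Set G) := Subgroup.le_centralizer_iff.1 hDF
  have hDD : D ≤ centralizer (D : Set G) := inf_le_left.trans (hAc.trans (centralizer_le (inf_le_left : D ≤ A)))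
  have hcomm : F ⊔ D ≤ centralizer ((F ⊔ D : Subgroup G) : Set G) :=
    sup_le (Subgroup.le_centralizer_iff.1 (sup_le hFF hDF)) (Subgroup.le_centralizer_iff.1 (sup_le hFD hDD))
  have hsq : ∀ x ∈ F ⊔ D, x ^ 2 = 1 := by
    intro x hx
    obtain ⟨a, ha, b, hb, rfl⟩ := OM.KTwo.exists_mul_of_mem_sup hDn hx
    have e : Commute a b := (mem_centralizer_iff.1 (hFD ha) b hb).symm
    rw [e.mul_pow, h2 a ha, hAsq b hb.1, one_mul]
  have h3 : Nat.card ↥(F ⊔ D) ≤ Nat.card A := by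
    have hle : F ⊔ D ≤ O := sup_le hF (inf_le_left.trans hAO)
    by_contra hlt
    push Not at hlt
    have h4 : F ⊔ D ∈ AA O := mem_AA_iff.2 ⟨ExactA.eab_iff.2 ⟨hcomm, hsq⟩, hle, hmax.trans hlt.le⟩
    have h5 : A ∈ AA O := mem_AA_iff.2 ⟨hA2, hAO, hmax⟩
    rw [← mm_eq h4, ← mm_eq h5] at hlt
    exact lt_irrefl _ hlt
  have h1 := NoFF.ThmJ.card_sup_mul hDn
  have h4 : Nat.card ↥(F ⊓ D) ≤ Nat.card ↥(F ⊓ centralizer (A : Set G)) :=
    card_le_of_le (inf_le_inf_left _ (inf_le_left.trans hAc))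
  refine relIndex_of_card ?_
  calc Nat.card F * Nat.card ↥(A ⊓ centralizer (F : Set G)) = Nat.card ↥(F ⊔ D) * Nat.card ↥(F ⊓ D) := h1.symm
    _ ≤ Nat.card A * Nat.card ↥(F ⊓ centralizer (A : Set G)) := Nat.mul_le_mul h3 h4

section

variable {S : Sylow 2 G} {P K B ZJ : Subgroup G} {q : ℕ} {L W Z C : Fin 2 → Subgroup G}

/-- **(V!)**, the field `LvIn.off`. -/
theorem off_of (h : Bg S P B ZJ L W Z C q) (hst : StgP S P K B ZJ) (i : Fin 2) {F : Subgroup G} (hF : F ≤ B)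
    (hn : B ≤ normalizer (F : Set G)) (hc : ∀ x ∈ F, ∀ y ∈ F, x * y = y * x) (h2 : ∀ x ∈ F, x ^ 2 = 1)
    (hU : W i ≤ F) : ∃ A ≤ B, ¬ A ≤ centralizer (F : Set G) ∧
      (centralizer (A : Set G)).relIndex F ≤ (centralizer (F : Set G)).relIndex A := by
  have hX : ¬ F ≤ ZJ := by
    intro hle
    obtain ⟨b, hb, w, hw, hne⟩ := (h.fr.blk i).ne
    exact hne (((h.fr.mem_ZJ w).1 (hle (hU hw))).2 b hb)
  obtain ⟨A, hA, -, hA1, hA2⟩ := exists_off hst le_rfl hst.lb.BS hF hn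
    (fun x hx => mem_centralizer_iff.2 fun y hy => hc y hy x hx) h2 hX
  exact ⟨A, hA, hA1, relIndex_of_card hA2⟩

/-- `LvIn` over `Bg` from `off`. -/
theorem LvIn.of_off (h : Bg S P B ZJ L W Z C q) (hTI : TI (Z 0))
    (hnl : NonLoc (normalizer (Z 0 : Set G)) (normalizer (Z 1 : Set G)))
    (hoff : ∀ i, ∀ F ≤ OO Z, B ≤ normalizer (F : Set G) → (∀ x ∈ F, ∀ y ∈ F, x * y = y * x) →
      (∀ x ∈ F, x ^ 2 = 1) → W i ≤ F → ∃ A ≤ B, ¬ A ≤ centralizer (F : Set G) ∧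
        (centralizer (A : Set G)).relIndex F ≤ (centralizer (F : Set G)).relIndex A)
    (hdone : ∀ i, ∀ K : Subgroup G, K ≤ centralizer (Z i : Set G) → normalizer (Z i : Set G) ≤ normalizer (K : Set G) →
      (∃ x ∈ K, IsPGroup 2 (zpowers x) ∧ x ∉ centralizer (NN Z (Z i) : Set G)) → ¬ K ≤ normalizer (W i : Set G)) :
    LvIn Z W B := by
  have D := FQ.of_bg h hTI hnl
  have hne : ∀ i : Fin 2, ∃ j : Fin 2, i ≠ j := by decide
  refine ⟨?_, ZS.zS_two h, hdone, ?_, ?_, ?_, ?_⟩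
  · intro i
    obtain ⟨T, hT, -, hTU⟩ := SylU.of_bg h i
    exact ⟨T, hT, hTU⟩
  · intro i K' hKZ hKn hs v hv hvZ z hz
    obtain ⟨j, hij⟩ := hne i
    exact BgQ.root_of h hTI hnl hij hKn hKZ hs v hv hvZ z hz
  · exact hoff
  · intro i v hv
    obtain ⟨j, hij⟩ := hne i
    exact D.cov hij hv
  · intro i e he
    obtain ⟨j, hij⟩ := hne i
    exact D.ptsW hij he

/-- **`LvIn` over `Bg`, no stage**: `hJ` = some `A ∈ AA O` moves `W i`. -/
theorem LvIn.of_bgJ (h : Bg S P B ZJ L W Z C q) (hTI : TI (Z 0))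
    (hnl : NonLoc (normalizer (Z 0 : Set G)) (normalizer (Z 1 : Set G)))
    (hJ : ∀ i, ∃ A ∈ AA (OO Z), ¬ A ≤ centralizer (W i : Set G))
    (hdone : ∀ i, ∀ K : Subgroup G, K ≤ centralizer (Z i : Set G) → normalizer (Z i : Set G) ≤ normalizer (K : Set G) →
      (∃ x ∈ K, IsPGroup 2 (zpowers x) ∧ x ∉ centralizer (NN Z (Z i) : Set G)) → ¬ K ≤ normalizer (W i : Set G)) :
    LvIn Z W B := by
  have D := FQ.of_bg h hTI hnl
  refine LvIn.of_off h hTI hnl (fun i F hF hn hc h2 hU => ?_) hdone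
  obtain ⟨A, hA, hAW⟩ := hJ i
  have hAB : A ≤ B := (mem_AA_iff.1 hA).2.1.trans D.O_le_B
  exact ⟨A, hAB, off_of_AA hA hAW hF (hAB.trans hn) hc h2 hU⟩

/-- **`LvIn` over `Bg`**, the stage `StgP`. -/
theorem LvIn.of_bg (h : Bg S P B ZJ L W Z C q) (hst : StgP S P K B ZJ) (hTI : TI (Z 0))
    (hnl : NonLoc (normalizer (Z 0 : Set G)) (normalizer (Z 1 : Set G)))
    (hdone : ∀ i, ∀ K : Subgroup G, K ≤ centralizer (Z i : Set G) → normalizer (Z i : Set G) ≤ normalizer (K : Set G) →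
      (∃ x ∈ K, IsPGroup 2 (zpowers x) ∧ x ∉ centralizer (NN Z (Z i) : Set G)) → ¬ K ≤ normalizer (W i : Set G)) :
    LvIn Z W B :=
  LvIn.of_off h hTI hnl (fun i _F hF hn hc h2 hU =>
    off_of h hst i (hF.trans (FQ.of_bg h hTI hnl).O_le_B) hn hc h2 hU) hdone

/-- **`LvIn` over `Mul`.** -/
theorem LvIn.of_mul (h : Mul S P K B ZJ L W Z C q) (hTI : TI (Z 0))
    (hnl : NonLoc (normalizer (Z 0 : Set G)) (normalizer (Z 1 : Set G)))
    (hdone : ∀ i, ∀ K : Subgroup G, K ≤ centralizer (Z i : Set G) → normalizer (Z i : Set G) ≤ normalizer (K : Set G) →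
      (∃ x ∈ K, IsPGroup 2 (zpowers x) ∧ x ∉ centralizer (NN Z (Z i) : Set G)) → ¬ K ≤ normalizer (W i : Set G)) :
    LvIn Z W B :=
  LvIn.of_bg h.bg h.stg hTI hnl hdone

end

end Cfsg.Agent.Omega.TCQ.R.Plug

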